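import Mathlib

/-!
# Finite projective modules along a dense map of "Tate rings"

A `Setting` for `L → L'`: a subring `O` of `L'` and an element `t` of it such that `L` is dense in
`L'` for the filtration `t ^ K * O`, every element is bounded, and elements near `1` are units.
-/

set_option autoImplicit false
set_option linter.style.haveILetI false

universe u v w

open Filter TensorProduct

namespace Groth.Agent.H1Approx

variable (L : Type u) (L' : Type v) [CommRing L] [CommRing L'] [Algebra L L']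

/-- The hypotheses on `L → L'`. -/
structure Setting where
  O : Subring L'
  t : L'
  t_mem : t ∈ O
  unit_of_near : ∀ y : L, (∃ o ∈ O, algebraMap L L' y - 1 = t * o) → IsUnit y
  unit_near : ∀ z : L', (∃ o ∈ O, z - 1 = t * o) → IsUnit z
  dense : ∀ (x : L') (K : ℕ), ∃ y : L, ∃ o ∈ O, x - algebraMap L L' y = t ^ K * o
  bounded : ∀ x : L', ∃ s : ℕ, t ^ s * x ∈ O

variable {L L'} (S : Setting L L')
variable {ι κ μ : Type*}

namespace Setting

/-- All entries lie in `t ^ K * O`. -/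
def Small (K : ℕ) (X : Matrix ι κ L') : Prop := ∀ i j, ∃ o ∈ S.O, X i j = S.t ^ K * o

theorem small_zero (K : ℕ) : S.Small K (0 : Matrix ι κ L') := fun i j => ⟨0, S.O.zero_mem, by simp⟩

theorem Small.add {K : ℕ} {X Y : Matrix ι κ L'} (hX : S.Small K X) (hY : S.Small K Y) :
    S.Small K (X + Y) := fun i j => by
  obtain ⟨o, ho, hX⟩ := hX i j
  obtain ⟨o', ho', hY⟩ := hY i j
  exact ⟨o + o', S.O.add_mem ho ho', by rw [Matrix.add_apply, hX, hY, mul_add]⟩

theorem Small.neg {K : ℕ} {X : Matrix ι κ L'} (hX : S.Small K X) : S.Small K (-X) := fun i j => by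
  obtain ⟨o, ho, hX⟩ := hX i j
  exact ⟨-o, S.O.neg_mem ho, by rw [Matrix.neg_apply, hX, mul_neg]⟩

theorem Small.sub {K : ℕ} {X Y : Matrix ι κ L'} (hX : S.Small K X) (hY : S.Small K Y) :
    S.Small K (X - Y) := sub_eq_add_neg X Y ▸ hX.add S (hY.neg S)

theorem Small.mono {K K' : ℕ} (h : K' ≤ K) {X : Matrix ι κ L'} (hX : S.Small K X) : S.Small K' X :=
  fun i j => by
    obtain ⟨o, ho, hX⟩ := hX i j
    refine ⟨S.t ^ (K - K') * o, S.O.mul_mem (S.O.pow_mem S.t_mem _) ho, ?_⟩
    rw [hX, ← mul_assoc, ← pow_add, Nat.add_sub_cancel' h]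

theorem exists_bound [Finite ι] [Finite κ] (X : Matrix ι κ L') :
    ∃ s : ℕ, ∀ i j, S.t ^ s * X i j ∈ S.O := by
  cases nonempty_fintype ι
  cases nonempty_fintype κ
  choose s hs using fun p : ι × κ => S.bounded (X p.1 p.2)
  refine ⟨∑ p, s p, fun i j => ?_⟩
  obtain ⟨d, hd⟩ := Nat.exists_eq_add_of_le
    (Finset.single_le_sum (fun p _ => Nat.zero_le (s p)) (Finset.mem_univ (i, j)))
  rw [hd, add_comm, pow_add, mul_assoc]
  exact S.O.mul_mem (S.O.pow_mem S.t_mem _) (hs (i, j))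

theorem Small.bdd_mul [Fintype κ] {s K : ℕ} {X : Matrix ι κ L'} {Y : Matrix κ μ L'}
    (hX : ∀ i j, S.t ^ s * X i j ∈ S.O) (hY : S.Small (K + s) Y) : S.Small K (X * Y) := fun i j => by
  choose o ho hY using fun k => hY k j
  refine ⟨∑ k, (S.t ^ s * X i k) * o k, sum_mem fun k _ => S.O.mul_mem (hX i k) (ho k), ?_⟩
  rw [Matrix.mul_apply, Finset.mul_sum]
  exact Finset.sum_congr rfl fun k _ => by rw [hY k, pow_add]; ring

theorem Small.mul_bdd [Fintype κ] {s K : ℕ} {X : Matrix ι κ L'} {Y : Matrix κ μ L'}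
    (hY : ∀ i j, S.t ^ s * Y i j ∈ S.O) (hX : S.Small (K + s) X) : S.Small K (X * Y) := fun i j => by
  choose o ho hX using fun k => hX i k
  refine ⟨∑ k, o k * (S.t ^ s * Y k j), sum_mem fun k _ => S.O.mul_mem (ho k) (hY k j), ?_⟩
  rw [Matrix.mul_apply, Finset.mul_sum]
  exact Finset.sum_congr rfl fun k _ => by rw [hX k, pow_add]; ring

/-- `Y k` tends to `X`. -/
def Near (Y : ℕ → Matrix ι κ L') (X : Matrix ι κ L') : Prop :=
  ∀ K, ∀ᶠ k in atTop, S.Small K (X - Y k)

theorem near_const (X : Matrix ι κ L') : S.Near (fun _ => X) X := fun K =>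
  Eventually.of_forall fun k => by rw [sub_self]; exact S.small_zero K

theorem Near.add {Y Y' : ℕ → Matrix ι κ L'} {X X' : Matrix ι κ L'} (h : S.Near Y X) (h' : S.Near Y' X') :
    S.Near (fun k => Y k + Y' k) (X + X') := fun K =>
  ((h K).and (h' K)).mono fun k hk => by
    rw [show X + X' - (Y k + Y' k) = (X - Y k) + (X' - Y' k) by abel]
    exact hk.1.add S hk.2

theorem Near.sub {Y Y' : ℕ → Matrix ι κ L'} {X X' : Matrix ι κ L'} (h : S.Near Y X) (h' : S.Near Y' X') :
    S.Near (fun k => Y k - Y' k) (X - X') := fun K =>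
  ((h K).and (h' K)).mono fun k hk => by
    rw [show X - X' - (Y k - Y' k) = (X - Y k) - (X' - Y' k) by abel]
    exact hk.1.sub S hk.2

theorem Near.mul [Finite ι] [Fintype κ] [Finite μ] {Y : ℕ → Matrix ι κ L'} {Y' : ℕ → Matrix κ μ L'}
    {X : Matrix ι κ L'} {X' : Matrix κ μ L'} (h : S.Near Y X) (h' : S.Near Y' X') :
    S.Near (fun k => Y k * Y' k) (X * X') := fun K => by
  obtain ⟨s, hs⟩ := S.exists_bound X
  obtain ⟨s', hs'⟩ := S.exists_bound X'
  filter_upwards [h (K + s'), h K, h' (K + s), h' 0] with k h1 h2 h3 h4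
  have h5 : ∀ i j, S.t ^ 0 * (X' - Y' k) i j ∈ S.O := fun i j => by
    obtain ⟨o, ho, he⟩ := h4 i j
    simpa [he] using ho
  rw [show X * X' - Y k * Y' k = X * (X' - Y' k) + (X - Y k) * X' - (X - Y k) * (X' - Y' k) by
    simp only [Matrix.mul_sub, Matrix.sub_mul]; abel]
  exact ((Small.bdd_mul S hs h3).add S (Small.mul_bdd S hs' h1)).sub S (Small.mul_bdd S h5 h2)

theorem exists_near [Finite ι] [Finite κ] (X : Matrix ι κ L') :
    ∃ Y : ℕ → Matrix ι κ L, S.Near (fun k => (Y k).map (algebraMap L L')) X := by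
  choose Y o ho hY using fun (k : ℕ) i j => S.dense (X i j) k
  refine ⟨fun k => Matrix.of (Y k), fun K => eventually_atTop.2 ⟨K, fun k hk => ?_⟩⟩
  refine Small.mono S hk fun i j => ⟨o k i j, ho k i j, ?_⟩
  simpa using hY k i j

variable [Fintype ι] [DecidableEq ι]

theorem det_sub_one {X : Matrix ι ι L'} (h : S.Small 1 (1 - X)) :
    ∃ o ∈ S.O, X.det - 1 = S.t * o := by
  choose o ho hX using h
  let E : Matrix ι ι S.O := Matrix.of fun i j => ⟨o i j, ho i j⟩
  let τ : S.O := ⟨S.t, S.t_mem⟩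
  have hEX : X = S.O.subtype.mapMatrix (1 - τ • E) := by
    rw [map_sub, map_one, ← sub_sub_cancel 1 X]
    congr 1
    ext i j
    simp [τ, E, hX i j]
  have hq : (1 - τ • E).det - 1 ∈ Ideal.span {τ} := by
    rw [← Ideal.Quotient.eq_zero_iff_mem, map_sub, RingHom.map_det, map_sub, map_one, map_one]
    have h0 : (Ideal.Quotient.mk (Ideal.span {τ})).mapMatrix (τ • E) = 0 := by
      ext i j
      simp [Ideal.Quotient.eq_zero_iff_mem.2 (Ideal.mem_span_singleton_self τ)]
    rw [h0, sub_zero, Matrix.det_one, sub_self]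
  obtain ⟨w, hw⟩ := Ideal.mem_span_singleton'.1 hq
  refine ⟨(w : L'), w.2, ?_⟩
  rw [hEX, ← RingHom.map_det]
  have := congrArg S.O.subtype hw
  simp only [map_mul, map_sub, map_one] at this
  rw [← this, mul_comm]
  rfl

theorem eventually_isUnit {Y : ℕ → Matrix ι ι L'} (h : S.Near Y 1) : ∀ᶠ k in atTop, IsUnit (Y k) :=
  (h 1).mono fun k hk => (Matrix.isUnit_iff_isUnit_det _).2 (S.unit_near _ (S.det_sub_one hk))

theorem eventually_isUnit_of_map {Y : ℕ → Matrix ι ι L}
    (h : S.Near (fun k => (Y k).map (algebraMap L L')) 1) : ∀ᶠ k in atTop, IsUnit (Y k) :=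
  (h 1).mono fun k hk => (Matrix.isUnit_iff_isUnit_det _).2 (S.unit_of_near _ (by
    have := S.det_sub_one hk
    dsimp only at this
    rwa [← RingHom.mapMatrix_apply, ← RingHom.map_det] at this))

end Setting

end Groth.Agent.H1Approx
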