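import Groth.Agent.H1Approx.Basic

/-!
# `A[1/t]` is dense in `Â[1/t]` for a Zariski pair `(A, t)`
-/

set_option autoImplicit false
set_option linter.style.haveILetI false

universe u

namespace Groth.Agent.H1Approx

variable (A : Type u) [CommRing A] (t : A)

theorem exists_sub_eq_pow_mul (n : ℕ) (b : AdicCompletion (Ideal.span {t}) A) :
    ∃ (a : A) (c : AdicCompletion (Ideal.span {t}) A),
      b - algebraMap A (AdicCompletion (Ideal.span {t}) A) a =
        algebraMap A (AdicCompletion (Ideal.span {t}) A) t ^ n * c := by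
  obtain ⟨a, ha⟩ := Submodule.Quotient.mk_surjective _ (AdicCompletion.eval (Ideal.span {t}) A n b)
  have hof : algebraMap A (AdicCompletion (Ideal.span {t}) A) a = AdicCompletion.of (Ideal.span {t}) A a := rfl
  have h : b - algebraMap A _ a ∈ (AdicCompletion.eval (Ideal.span {t}) A n).ker := by
    rw [LinearMap.mem_ker, map_sub, hof, AdicCompletion.eval_of, ← ha]
    exact sub_self _
  rw [← AdicCompletion.pow_smul_top_eq_ker_eval (Submodule.fg_span_singleton t), Ideal.span_singleton_pow,
    Submodule.ideal_span_singleton_smul, Submodule.mem_smul_pointwise_iff_exists] at h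
  obtain ⟨c, -, hc⟩ := h
  exact ⟨a, c, by rw [← hc, ← map_pow, Algebra.smul_def]⟩

theorem exists_eq_pow_mul (n : ℕ) (a : A) (c : AdicCompletion (Ideal.span {t}) A)
    (h : algebraMap A (AdicCompletion (Ideal.span {t}) A) a =
      algebraMap A (AdicCompletion (Ideal.span {t}) A) t ^ n * c) : ∃ a', a = t ^ n * a' := by
  have h1 : AdicCompletion.evalₐ (Ideal.span {t}) n (algebraMap A _ a) = 0 := by
    rw [h, map_mul, map_pow, AlgHom.commutes, ← map_pow, Ideal.Quotient.algebraMap_eq,
      Ideal.Quotient.eq_zero_iff_mem.2 (by rw [Ideal.span_singleton_pow]; exact Ideal.mem_span_singleton_self _),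
      zero_mul]
  rw [AlgHom.commutes, Ideal.Quotient.algebraMap_eq, Ideal.Quotient.eq_zero_iff_mem,
    Ideal.span_singleton_pow, Ideal.mem_span_singleton'] at h1
  obtain ⟨a', ha'⟩ := h1
  exact ⟨a', by rw [← ha', mul_comm]⟩

theorem isUnit_one_add_mul (c : AdicCompletion (Ideal.span {t}) A) :
    IsUnit (1 + algebraMap A (AdicCompletion (Ideal.span {t}) A) t * c) := by
  have : IsAdicComplete ((Ideal.span {t}).map (algebraMap A (AdicCompletion (Ideal.span {t}) A)))
      (AdicCompletion (Ideal.span {t}) A) :=
    (IsAdicComplete.map_algebraMap_iff _ _).2 (AdicCompletion.isAdicComplete (Submodule.fg_span_singleton t))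
  have hm : algebraMap A (AdicCompletion (Ideal.span {t}) A) t * c ∈
      (⊥ : Ideal (AdicCompletion (Ideal.span {t}) A)).jacobson :=
    Ideal.mul_mem_right _ _ (IsAdicComplete.le_jacobson_bot
      ((Ideal.span {t}).map (algebraMap A (AdicCompletion (Ideal.span {t}) A)))
      (Ideal.mem_map_of_mem _ (Ideal.mem_span_singleton_self t)))
  rw [add_comm]
  simpa using Ideal.mem_jacobson_bot.1 hm 1

variable {A}

/-- The setting `A[1/t] → Â[1/t]`. -/
noncomputable def completionSetting (ht : t ∈ (⊥ : Ideal A).jacobson)
    [Algebra (Localization.Away t) (Localization.Away (algebraMap A (AdicCompletion (Ideal.span {t}) A) t))]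
    (halg : algebraMap (Localization.Away t) (Localization.Away (algebraMap A (AdicCompletion (Ideal.span {t}) A) t)) =
      Localization.awayMap (algebraMap A (AdicCompletion (Ideal.span {t}) A)) t) :
    Setting (Localization.Away t) (Localization.Away (algebraMap A (AdicCompletion (Ideal.span {t}) A) t)) :=
  let ι := algebraMap (AdicCompletion (Ideal.span {t}) A)
    (Localization.Away (algebraMap A (AdicCompletion (Ideal.span {t}) A) t))
  let T := algebraMap A (AdicCompletion (Ideal.span {t}) A) t
  have hmap : ∀ a : A, algebraMap (Localization.Away t) (Localization.Away T) (algebraMap A _ a) =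
      ι (algebraMap A _ a) := fun a => by
    rw [halg, Localization.awayMap, IsLocalization.Away.map, IsLocalization.map_eq]
  have hT : ∀ k : ℕ, IsUnit (ι T ^ k) := fun k =>
    (IsLocalization.Away.algebraMap_isUnit T).pow k
  have hsurj : ∀ x : Localization.Away T, ∃ (s : ℕ) (b : AdicCompletion (Ideal.span {t}) A),
      x * ι T ^ s = ι b := fun x => by
    obtain ⟨⟨b, _, s, rfl⟩, hb⟩ := IsLocalization.surj (Submonoid.powers T) x
    exact ⟨s, b, by rw [← map_pow]; exact hb⟩
  { O := ι.range
    t := ι T
    t_mem := ⟨T, rfl⟩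
    unit_of_near := by
      rintro y ⟨_, ⟨b, rfl⟩, hy⟩
      obtain ⟨⟨a, _, s, rfl⟩, ha⟩ := IsLocalization.surj (Submonoid.powers t) y
      have h1 : ι (algebraMap A _ a) = ι (T ^ s + T ^ (s + 1) * b) := by
        have := congrArg (algebraMap (Localization.Away t) (Localization.Away T)) ha
        rw [map_mul, hmap, hmap, sub_eq_iff_eq_add.1 hy] at this
        dsimp only at this
        simp only [map_add, map_mul, map_pow] at this ⊢
        linear_combination -this
      obtain ⟨⟨_, r, rfl⟩, hr⟩ := (IsLocalization.eq_iff_exists (Submonoid.powers T) (Localization.Away T)).1 h1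
      have h2 : algebraMap A (AdicCompletion (Ideal.span {t}) A) (t ^ r * (a - t ^ s)) = T ^ (r + s + 1) * b := by
        simp only [map_mul, map_pow, map_sub]
        linear_combination hr
      obtain ⟨a', ha'⟩ := exists_eq_pow_mul A t _ _ _ h2
      have hu : IsUnit (algebraMap A (Localization.Away t) (1 + t * a')) := by
        refine IsUnit.map _ ?_
        rw [add_comm]
        exact Ideal.mem_jacobson_bot.1 ht a'
      have hru : ∀ k : ℕ, IsUnit (algebraMap A (Localization.Away t) t ^ k) := fun k =>
        (IsLocalization.Away.algebraMap_isUnit t).pow k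
      refine isUnit_of_mul_isUnit_left (y := algebraMap A (Localization.Away t) t ^ (r + s)) ?_
      have h3 : y * algebraMap A (Localization.Away t) t ^ (r + s) =
          algebraMap A (Localization.Away t) (t ^ (r + s)) * algebraMap A _ (1 + t * a') := by
        rw [pow_add, mul_left_comm, ← map_pow _ t s, ha, ← map_pow, ← map_mul, ← map_mul]
        congr 1
        linear_combination ha'
      rw [h3, map_pow]
      exact (hru _).mul hu
    unit_near := by
      rintro z ⟨_, ⟨b, rfl⟩, hz⟩
      rw [sub_eq_iff_eq_add.1 hz, add_comm, ← map_mul, ← map_one ι, ← map_add]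
      exact (isUnit_one_add_mul A t b).map ι
    dense := by
      intro x K
      obtain ⟨s, b, hb⟩ := hsurj x
      obtain ⟨a, c, hc⟩ := exists_sub_eq_pow_mul A t (K + s) b
      obtain ⟨y, hy⟩ : ∃ y : Localization.Away t, y * algebraMap A _ t ^ s = algebraMap A _ a := by
        obtain ⟨u, hu⟩ := (IsLocalization.Away.algebraMap_isUnit (S := Localization.Away t) t).pow s
        exact ⟨algebraMap A _ a * ↑u⁻¹, by rw [← hu, mul_assoc, Units.inv_mul, mul_one]⟩
      refine ⟨y, ι c, ⟨c, rfl⟩, ?_⟩
      refine (hT s).mul_left_injective ?_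
      have hy' := congrArg (algebraMap (Localization.Away t) (Localization.Away T)) hy
      rw [map_mul, map_pow, hmap, hmap] at hy'
      show (x - _) * ι T ^ s = ι T ^ K * ι c * ι T ^ s
      rw [sub_mul, hb, hy', ← map_sub, hc, map_mul, map_pow]
      ring
    bounded := fun x => by
      obtain ⟨s, b, hb⟩ := hsurj x
      exact ⟨s, b, by rw [← hb, mul_comm]⟩ }

end Groth.Agent.H1Approx
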