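import Groth.Agent.H1Approx.Basic

/-!
# Finite projective modules along a dense map
-/

set_option autoImplicit false
set_option linter.style.haveILetI false
set_option backward.isDefEq.respectTransparency false

universe u v w

open Filter TensorProduct LinearMap

namespace Groth.Agent.H1Approx

variable {L : Type u} {L' : Type v} [CommRing L] [CommRing L'] [Algebra L L']

variable (L') in
/-- The standard basis of `L' ⊗ L ^ n`. -/
noncomputable abbrev stdB (n : ℕ) : Module.Basis (Fin n) L' (L' ⊗[L] (Fin n → L)) :=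
  Algebra.TensorProduct.basis L' (Pi.basisFun L (Fin n))

/-- The matrix of a map between base changed free modules. -/
noncomputable abbrev mat {m n : ℕ} (Φ : L' ⊗[L] (Fin m → L) →ₗ[L'] L' ⊗[L] (Fin n → L)) :
    Matrix (Fin n) (Fin m) L' :=
  LinearMap.toMatrix (stdB L' m) (stdB L' n) Φ

variable (S : Setting L L') {m n p : ℕ}

namespace Setting

/-- `U k` tends to `Φ`. -/
def LNear (U : ℕ → L' ⊗[L] (Fin m → L) →ₗ[L'] L' ⊗[L] (Fin n → L))
    (Φ : L' ⊗[L] (Fin m → L) →ₗ[L'] L' ⊗[L] (Fin n → L)) : Prop :=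
  S.Near (fun k => mat (U k)) (mat Φ)

theorem lnear_const (Φ : L' ⊗[L] (Fin m → L) →ₗ[L'] L' ⊗[L] (Fin n → L)) : S.LNear (fun _ => Φ) Φ :=
  S.near_const _

theorem LNear.add {U V : ℕ → L' ⊗[L] (Fin m → L) →ₗ[L'] L' ⊗[L] (Fin n → L)}
    {Φ Ψ : L' ⊗[L] (Fin m → L) →ₗ[L'] L' ⊗[L] (Fin n → L)} (h : S.LNear U Φ) (h' : S.LNear V Ψ) :
    S.LNear (fun k => U k + V k) (Φ + Ψ) := by
  unfold LNear; simp only [mat, map_add]; exact Near.add S h h'

theorem LNear.sub {U V : ℕ → L' ⊗[L] (Fin m → L) →ₗ[L'] L' ⊗[L] (Fin n → L)}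
    {Φ Ψ : L' ⊗[L] (Fin m → L) →ₗ[L'] L' ⊗[L] (Fin n → L)} (h : S.LNear U Φ) (h' : S.LNear V Ψ) :
    S.LNear (fun k => U k - V k) (Φ - Ψ) := by
  have hs : ∀ A B : L' ⊗[L] (Fin m → L) →ₗ[L'] L' ⊗[L] (Fin n → L), mat (A - B) = mat A - mat B := fun A B => by
    ext i j
    simp [LinearMap.toMatrix_apply]
  unfold LNear; simp only [hs]; exact Near.sub S h h'

theorem LNear.comp {U : ℕ → L' ⊗[L] (Fin n → L) →ₗ[L'] L' ⊗[L] (Fin p → L)}
    {V : ℕ → L' ⊗[L] (Fin m → L) →ₗ[L'] L' ⊗[L] (Fin n → L)}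
    {Φ : L' ⊗[L] (Fin n → L) →ₗ[L'] L' ⊗[L] (Fin p → L)}
    {Ψ : L' ⊗[L] (Fin m → L) →ₗ[L'] L' ⊗[L] (Fin n → L)} (h : S.LNear U Φ) (h' : S.LNear V Ψ) :
    S.LNear (fun k => U k ∘ₗ V k) (Φ ∘ₗ Ψ) := by
  unfold LNear mat
  simp only [LinearMap.toMatrix_comp (stdB L' m) (stdB L' n) (stdB L' p)]
  exact Near.mul S h h'

theorem exists_lnear (Φ : L' ⊗[L] (Fin m → L) →ₗ[L'] L' ⊗[L] (Fin n → L)) :
    ∃ F : ℕ → (Fin m → L) →ₗ[L] (Fin n → L), S.LNear (fun k => (F k).baseChange L') Φ := by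
  obtain ⟨Y, hY⟩ := S.exists_near (mat Φ)
  refine ⟨fun k => Matrix.toLin (Pi.basisFun L (Fin m)) (Pi.basisFun L (Fin n)) (Y k), ?_⟩
  unfold LNear
  simp only [mat, LinearMap.toMatrix_baseChange, LinearMap.toMatrix_toLin]
  exact hY

theorem eventually_bijective {U : ℕ → L' ⊗[L] (Fin n → L) →ₗ[L'] L' ⊗[L] (Fin n → L)}
    (h : S.LNear U LinearMap.id) : ∀ᶠ k in atTop, Function.Bijective (U k) := by
  unfold LNear at h
  simp only [mat, LinearMap.toMatrix_id] at h
  refine (S.eventually_isUnit h).mono fun k hk => ?_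
  have := hk.map (Matrix.toLinAlgEquiv (stdB L' n : Module.Basis (Fin n) L' (L' ⊗[L] (Fin n → L))))
  rw [show Matrix.toLinAlgEquiv (stdB L' n) (mat (U k)) = U k from
    Matrix.toLin_toMatrix _ _ _] at this
  exact (Module.End.isUnit_iff _).1 this

theorem eventually_bijective_of_baseChange {U : ℕ → (Fin n → L) →ₗ[L] (Fin n → L)}
    (h : S.LNear (fun k => (U k).baseChange L') LinearMap.id) :
    ∀ᶠ k in atTop, Function.Bijective (U k) := by
  unfold LNear at h
  simp only [mat, LinearMap.toMatrix_id, LinearMap.toMatrix_baseChange] at h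
  refine (S.eventually_isUnit_of_map h).mono fun k hk => ?_
  have := hk.map (Matrix.toLinAlgEquiv (Pi.basisFun L (Fin n)))
  rw [show Matrix.toLinAlgEquiv (Pi.basisFun L (Fin n))
      (LinearMap.toMatrix (Pi.basisFun L (Fin n)) (Pi.basisFun L (Fin n)) (U k)) = U k from
    Matrix.toLin_toMatrix _ _ _] at this
  exact (Module.End.isUnit_iff _).1 this

variable {M N : Type w} [AddCommGroup M] [Module L M] [AddCommGroup N] [Module L N]

theorem nonempty_linearEquiv_of_baseChange (S : Setting L L') [Module.Finite L M] [Module.Projective L M]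
    [Module.Finite L N] [Module.Projective L N] (e : L' ⊗[L] M ≃ₗ[L'] L' ⊗[L] N) :
    Nonempty (M ≃ₗ[L] N) := by
  obtain ⟨m, πM, hπM⟩ := Module.Finite.exists_fin' L M
  obtain ⟨ιM, hιM⟩ := Module.projective_lifting_property πM LinearMap.id hπM
  obtain ⟨n, πN, hπN⟩ := Module.Finite.exists_fin' L N
  obtain ⟨ιN, hιN⟩ := Module.projective_lifting_property πN LinearMap.id hπN
  have hM : πM.baseChange L' ∘ₗ ιM.baseChange L' = LinearMap.id := by
    rw [← LinearMap.baseChange_comp, hιM, LinearMap.baseChange_id]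
  have hN : πN.baseChange L' ∘ₗ ιN.baseChange L' = LinearMap.id := by
    rw [← LinearMap.baseChange_comp, hιN, LinearMap.baseChange_id]
  obtain ⟨F, hF⟩ := S.exists_lnear (ιN.baseChange L' ∘ₗ e.toLinearMap ∘ₗ πM.baseChange L')
  obtain ⟨G, hG⟩ := S.exists_lnear (ιM.baseChange L' ∘ₗ e.symm.toLinearMap ∘ₗ πN.baseChange L')
  let f : ℕ → M →ₗ[L] N := fun k => πN ∘ₗ F k ∘ₗ ιM
  let g : ℕ → N →ₗ[L] M := fun k => πM ∘ₗ G k ∘ₗ ιN
  have key : ∀ {r : ℕ} {P : Type w} [AddCommGroup P] [Module L P] (π : (Fin r → L) →ₗ[L] P)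
      (ι : P →ₗ[L] (Fin r → L)) (φ : ℕ → P →ₗ[L] P), π ∘ₗ ι = LinearMap.id →
      S.LNear (fun k => (ι ∘ₗ φ k ∘ₗ π + (LinearMap.id - ι ∘ₗ π)).baseChange L') LinearMap.id →
      ∀ᶠ k in atTop, Function.Bijective (φ k) := by
    intro r P _ _ π ι φ hπ h
    refine (S.eventually_bijective_of_baseChange h).mono fun k hk => ?_
    have hπ' : ∀ x, π (ι x) = x := fun x => LinearMap.congr_fun hπ x
    refine ⟨fun x y hxy => ?_, fun y => ?_⟩
    · have : ι x = ι y := hk.1 (by simp [hπ', hxy])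
      rw [← hπ' x, this, hπ']
    · obtain ⟨z, hz⟩ := hk.2 (ι y)
      refine ⟨π z, ?_⟩
      have := congrArg π hz
      simpa [hπ'] using this
  have hgf : ∀ᶠ k in atTop, Function.Bijective (g k ∘ₗ f k) := by
    refine key πM ιM _ hιM ?_
    have h1 := (((S.lnear_const ((ιM ∘ₗ πM).baseChange L')).comp S hG).comp S
      ((S.lnear_const ((ιN ∘ₗ πN).baseChange L')).comp S hF)).comp S
      (S.lnear_const ((ιM ∘ₗ πM).baseChange L'))
    have h2 := h1.add S (S.lnear_const ((LinearMap.id - ιM ∘ₗ πM).baseChange L'))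
    convert h2 using 1
    · funext k
      simp only [f, g, LinearMap.baseChange_add, LinearMap.baseChange_sub, LinearMap.baseChange_comp,
        LinearMap.comp_assoc]
    · have hM' : ∀ x, πM.baseChange L' (ιM.baseChange L' x) = x := fun x => LinearMap.congr_fun hM x
      have hN' : ∀ x, πN.baseChange L' (ιN.baseChange L' x) = x := fun x => LinearMap.congr_fun hN x
      refine LinearMap.ext fun x => ?_
      simp [LinearMap.baseChange_comp, LinearMap.baseChange_sub, LinearMap.baseChange_id, hM', hN']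
  have hfg : ∀ᶠ k in atTop, Function.Bijective (f k ∘ₗ g k) := by
    refine key πN ιN _ hιN ?_
    have h1 := (((S.lnear_const ((ιN ∘ₗ πN).baseChange L')).comp S hF).comp S
      ((S.lnear_const ((ιM ∘ₗ πM).baseChange L')).comp S hG)).comp S
      (S.lnear_const ((ιN ∘ₗ πN).baseChange L'))
    have h2 := h1.add S (S.lnear_const ((LinearMap.id - ιN ∘ₗ πN).baseChange L'))
    convert h2 using 1
    · funext k
      simp only [f, g, LinearMap.baseChange_add, LinearMap.baseChange_sub, LinearMap.baseChange_comp,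
        LinearMap.comp_assoc]
    · have hM' : ∀ x, πM.baseChange L' (ιM.baseChange L' x) = x := fun x => LinearMap.congr_fun hM x
      have hN' : ∀ x, πN.baseChange L' (ιN.baseChange L' x) = x := fun x => LinearMap.congr_fun hN x
      refine LinearMap.ext fun x => ?_
      simp [LinearMap.baseChange_comp, LinearMap.baseChange_sub, LinearMap.baseChange_id, hM', hN']
  obtain ⟨k, h1, h2⟩ := (hgf.and hfg).exists
  rw [LinearMap.coe_comp] at h1 h2
  exact ⟨LinearEquiv.ofBijective (f k) ⟨h1.1.of_comp, h2.2.of_comp⟩⟩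

theorem exists_stablyFree (S : Setting L L') {M' : Type w} [AddCommGroup M'] [Module L' M'] (n m : ℕ)
    (e : (M' × (Fin n → L')) ≃ₗ[L'] (Fin m → L')) :
    ∃ (M : Type u) (_ : AddCommGroup M) (_ : Module L M), Module.Finite L M ∧
      (∃ a b : ℕ, Nonempty ((M × (Fin a → L)) ≃ₗ[L] (Fin b → L))) ∧
      Nonempty (L' ⊗[L] M ≃ₗ[L'] M') := by
  let em : L' ⊗[L] (Fin m → L) ≃ₗ[L'] (Fin m → L') := (stdB L' m).equivFun
  let en : L' ⊗[L] (Fin n → L) ≃ₗ[L'] (Fin n → L') := (stdB L' n).equivFun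
  let P : L' ⊗[L] (Fin m → L) →ₗ[L'] L' ⊗[L] (Fin n → L) :=
    en.symm.toLinearMap ∘ₗ LinearMap.snd L' M' (Fin n → L') ∘ₗ e.symm.toLinearMap ∘ₗ em.toLinearMap
  let Q : L' ⊗[L] (Fin n → L) →ₗ[L'] L' ⊗[L] (Fin m → L) :=
    em.symm.toLinearMap ∘ₗ e.toLinearMap ∘ₗ LinearMap.inr L' M' (Fin n → L') ∘ₗ en.toLinearMap
  let a : M' →ₗ[L'] L' ⊗[L] (Fin m → L) :=
    em.symm.toLinearMap ∘ₗ e.toLinearMap ∘ₗ LinearMap.inl L' M' (Fin n → L')
  let b : L' ⊗[L] (Fin m → L) →ₗ[L'] M' :=
    LinearMap.fst L' M' (Fin n → L') ∘ₗ e.symm.toLinearMap ∘ₗ em.toLinearMap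
  have hPQ : P ∘ₗ Q = LinearMap.id := LinearMap.ext fun x => by simp [P, Q]
  have hba : ∀ x, b (a x) = x := fun x => by simp [a, b]
  have hPa : ∀ x, P (a x) = 0 := fun x => by simp [a, P]
  have hab : ∀ x, a (b x) = x - Q (P x) := fun x => by
    apply em.injective
    apply e.symm.injective
    simp [a, b, P, Q, Prod.ext_iff]
  have hbQ : ∀ x, b (Q x) = 0 := fun x => by simp [b, Q]
  obtain ⟨F, hF⟩ := S.exists_lnear P
  obtain ⟨G, hG⟩ := S.exists_lnear Q
  have h1 : ∀ᶠ k in atTop, Function.Bijective (F k ∘ₗ G k) := by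
    refine S.eventually_bijective_of_baseChange ?_
    simp only [LinearMap.baseChange_comp]
    simpa [hPQ] using hF.comp S hG
  have h2 : ∀ᶠ k in atTop, Function.Bijective
      (LinearMap.id + Q ∘ₗ ((F k).baseChange L' - P) : L' ⊗[L] (Fin m → L) →ₗ[L'] L' ⊗[L] (Fin m → L)) := by
    refine S.eventually_bijective ?_
    have h := (S.lnear_const (LinearMap.id : L' ⊗[L] (Fin m → L) →ₗ[L'] L' ⊗[L] (Fin m → L))).add S
      ((S.lnear_const Q).comp S (hF.sub S (S.lnear_const P)))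
    convert h using 1
    refine LinearMap.ext fun x => ?_
    simp only [LinearMap.add_apply, LinearMap.comp_apply, LinearMap.sub_apply, sub_self, map_zero, add_zero]
  obtain ⟨k, hk1, hk2⟩ := (h1.and h2).exists
  let w := LinearEquiv.ofBijective _ hk1
  let Q₁ : (Fin n → L) →ₗ[L] (Fin m → L) := G k ∘ₗ w.symm.toLinearMap
  have hFQ : ∀ x, F k (Q₁ x) = x := fun x => w.apply_symm_apply x
  let K := LinearMap.ker (F k)
  let ι := K.subtype
  let r : (Fin m → L) →ₗ[L] K := (LinearMap.id - Q₁ ∘ₗ F k).codRestrict K fun x => by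
    simp [K, LinearMap.mem_ker, hFQ]
  have hrι : r ∘ₗ ι = LinearMap.id := LinearMap.ext fun x => Subtype.ext (by
    have : F k (x : Fin m → L) = 0 := x.2
    simp [r, ι, this])
  have hι : ι ∘ₗ r = LinearMap.id - Q₁ ∘ₗ F k := rfl
  haveI : Module.Finite L K := Module.Finite.of_surjective r fun x => ⟨ι x, LinearMap.congr_fun hrι x⟩
  refine ⟨K, inferInstance, inferInstance, inferInstance, ⟨n, m, ⟨?_⟩⟩, ?_⟩
  · refine LinearEquiv.ofLinearMap (ι.coprod Q₁) (r.prod (F k)) ?_ ?_
    · refine LinearMap.ext fun x => ?_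
      simp [r, ι]
    · refine LinearMap.ext fun x => ?_
      obtain ⟨⟨x, hx⟩, y⟩ := x
      have hx' : F k x = 0 := hx
      refine Prod.ext (Subtype.ext ?_) ?_
      · simp [r, ι, hx', hFQ]
      · simp [ι, hx', hFQ]
  · let u := LinearEquiv.ofBijective _ hk2
    have hu : ∀ x, P (u x) = (F k).baseChange L' x := fun x => by
      have hPQ' : ∀ y, P (Q y) = y := fun y => LinearMap.congr_fun hPQ y
      rw [show u x = x + Q (((F k).baseChange L' - P) x) from rfl, map_add, hPQ', LinearMap.sub_apply]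
      exact add_sub_cancel _ _
    have hus : ∀ x, (F k).baseChange L' (u.symm x) = P x := fun x => by
      rw [← hu, u.apply_symm_apply]
    have hι' : ∀ x, ι.baseChange L' (r.baseChange L' x) =
        x - Q₁.baseChange L' ((F k).baseChange L' x) := fun x => by
      rw [← LinearMap.comp_apply, ← LinearMap.baseChange_comp, hι, LinearMap.baseChange_sub,
        LinearMap.baseChange_id, LinearMap.baseChange_comp]
      rfl
    have hrι' : ∀ x, r.baseChange L' (ι.baseChange L' x) = x := fun x => by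
      rw [← LinearMap.comp_apply, ← LinearMap.baseChange_comp, hrι, LinearMap.baseChange_id]; rfl
    have hFι : ∀ x, (F k).baseChange L' (ι.baseChange L' x) = 0 := fun x => by
      rw [← LinearMap.comp_apply, ← LinearMap.baseChange_comp,
        show F k ∘ₗ ι = 0 from LinearMap.ext fun y => y.2, LinearMap.baseChange_zero]
      rfl
    refine ⟨LinearEquiv.ofLinearMap (b ∘ₗ u.toLinearMap ∘ₗ ι.baseChange L')
      (r.baseChange L' ∘ₗ u.symm.toLinearMap ∘ₗ a) (LinearMap.ext fun x => ?_) (LinearMap.ext fun x => ?_)⟩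
    · simp only [LinearMap.comp_apply, LinearEquiv.coe_coe, LinearMap.id_apply]
      rw [hι', hus, hPa, map_zero, sub_zero, u.apply_symm_apply, hba]
    · simp only [LinearMap.comp_apply, LinearEquiv.coe_coe, LinearMap.id_apply]
      rw [hab, hu, hFι, map_zero, sub_zero, u.symm_apply_apply, hrι']

theorem exists_model_of_idempotent (S : Setting L L') {M' : Type w} [AddCommGroup M'] [Module L' M']
    (π' : L' ⊗[L] (Fin n → L) →ₗ[L'] M') (ι' : M' →ₗ[L'] L' ⊗[L] (Fin n → L))
    (hπι : π' ∘ₗ ι' = LinearMap.id) (E : ℕ → (Fin n → L) →ₗ[L] (Fin n → L))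
    (hE : ∀ k, E k ∘ₗ E k = E k) (hnear : S.LNear (fun k => (E k).baseChange L') (ι' ∘ₗ π')) :
    ∃ (M : Type u) (_ : AddCommGroup M) (_ : Module L M), Module.Finite L M ∧ Module.Projective L M ∧
      Nonempty (L' ⊗[L] M ≃ₗ[L'] M') := by
  let e := ι' ∘ₗ π'
  have hee : e ∘ₗ e = e := by
    refine LinearMap.ext fun x => ?_
    show ι' (π' (ι' (π' x))) = ι' (π' x)
    rw [show π' (ι' (π' x)) = π' x from LinearMap.congr_fun hπι _]
  have h : ∀ᶠ k in atTop, Function.Bijective
      (e ∘ₗ (E k).baseChange L' + (LinearMap.id - e) ∘ₗ (LinearMap.id - (E k).baseChange L') :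
        L' ⊗[L] (Fin n → L) →ₗ[L'] L' ⊗[L] (Fin n → L)) := by
    refine S.eventually_bijective ?_
    have h := ((S.lnear_const e).comp S hnear).add S
      ((S.lnear_const (LinearMap.id - e)).comp S ((S.lnear_const (LinearMap.id : L' ⊗[L] (Fin n → L) →ₗ[L'] L' ⊗[L] (Fin n → L))).sub S hnear))
    convert h using 1
    show (LinearMap.id : L' ⊗[L] (Fin n → L) →ₗ[L'] _) = e ∘ₗ e + (LinearMap.id - e) ∘ₗ (LinearMap.id - e)
    simp only [LinearMap.comp_sub, LinearMap.sub_comp, LinearMap.id_comp, LinearMap.comp_id, hee]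
    abel
  obtain ⟨k, hk⟩ := h.exists
  let u := LinearEquiv.ofBijective _ hk
  let ι := (LinearMap.range (E k)).subtype
  let r := (E k).rangeRestrict
  have hrι : r ∘ₗ ι = LinearMap.id := LinearMap.ext fun x => Subtype.ext (by
    obtain ⟨_, y, rfl⟩ := x
    exact LinearMap.congr_fun (hE k) y)
  have hrs : Function.Surjective r := LinearMap.surjective_rangeRestrict _
  refine ⟨LinearMap.range (E k), inferInstance, inferInstance, Module.Finite.of_surjective r hrs,
    Module.Projective.of_split ι r hrι, ?_⟩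
  have hbe : ∀ x, (E k).baseChange L' x = ι.baseChange L' (r.baseChange L' x) := fun x => by
    rw [← LinearMap.comp_apply, ← LinearMap.baseChange_comp]; rfl
  have hrι' : ∀ x, r.baseChange L' (ι.baseChange L' x) = x := fun x => by
    rw [← LinearMap.comp_apply, ← LinearMap.baseChange_comp, hrι, LinearMap.baseChange_id]; rfl
  have hcomm : ∀ x, e (u x) = u ((E k).baseChange L' x) := fun x => by
    have h2 : ∀ y, (E k).baseChange L' ((E k).baseChange L' y) = (E k).baseChange L' y := fun y => by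
      rw [← LinearMap.comp_apply, ← LinearMap.baseChange_comp, hE]
    have h3 : ∀ y, e (e y) = e y := fun y => LinearMap.congr_fun hee y
    show e (e _ + (_ - e _)) = e _ + (_ - e _)
    simp [h2, h3]
  have hπι' : ∀ x, π' (ι' x) = x := fun x => LinearMap.congr_fun hπι x
  refine ⟨LinearEquiv.ofLinearMap (π' ∘ₗ u.toLinearMap ∘ₗ ι.baseChange L')
    (r.baseChange L' ∘ₗ u.symm.toLinearMap ∘ₗ ι') (LinearMap.ext fun x => ?_) (LinearMap.ext fun x => ?_)⟩
  · simp only [LinearMap.comp_apply, LinearEquiv.coe_coe, LinearMap.id_apply]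
    rw [← hbe, ← hcomm, u.apply_symm_apply]
    show π' (ι' (π' (ι' x))) = x
    rw [hπι', hπι']
  · simp only [LinearMap.comp_apply, LinearEquiv.coe_coe, LinearMap.id_apply]
    rw [show ι' (π' (u (ι.baseChange L' x))) = e (u (ι.baseChange L' x)) from rfl, hcomm,
      u.symm_apply_apply, hbe, hrι', hrι']

end Setting

end Groth.Agent.H1Approx
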