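import Groth.Agent.H1Approx.Idempotent
import Groth.Agent.H1Approx.Modules
import Groth.Agent.S1958

/-!
# `R{t}[1/t]` is dense in `R((t))`
-/

set_option autoImplicit false
set_option linter.style.haveILetI false

universe u v

open Polynomial Filter

namespace Groth.Agent.H1Approx

variable {R : Type u} [CommRing R] {B : Type u} [CommRing B] [Algebra R[X] B]
  (hB : Hens2.IsPairHenselization R[X] (Ideal.span {(X : R[X])}) B) (ψ : B →ₐ[R[X]] PowerSeries R)
  {L' : Type v} [CommRing L'] [Algebra (Localization.Away (algebraMap R[X] B X)) L']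
  (e : L' ≃+* LaurentSeries R)
  (he : ∀ b : B, e (algebraMap (Localization.Away (algebraMap R[X] B X)) L'
    (algebraMap B (Localization.Away (algebraMap R[X] B X)) b)) = HahnSeries.ofPowerSeries ℤ R (ψ b))

theorem map_span_X : (Ideal.span {(X : R[X])}).map (algebraMap R[X] B) = Ideal.span {algebraMap R[X] B X} := by
  rw [Ideal.map_span, Set.image_singleton]

theorem ψ_X : ψ (algebraMap R[X] B X) = PowerSeries.X := by
  rw [AlgHom.commutes]
  simp [PowerSeries.algebraMap_apply']

theorem ψ_poly (p : R[X]) : ψ (algebraMap R[X] B p) = (p : PowerSeries R) := by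
  rw [AlgHom.commutes]
  simp [PowerSeries.algebraMap_apply']

include hB in
theorem isHenselian : HenselianRing B (Ideal.span {algebraMap R[X] B X}) := by
  rw [← map_span_X]; exact hB.1

include hB in
theorem X_regular (x : B) (h : algebraMap R[X] B X * x = 0) : x = 0 := by
  haveI := (S1958.result R[X] (Ideal.span {(X : R[X])}) B hB).1
  have hr : IsSMulRegular R[X] (X : R[X]) := fun a b hab => mul_left_cancel₀' hab
  exact (IsSMulRegular.of_flat (S := B) hr).right_eq_zero_of_smul (by rw [smul_eq_mul]; exact h)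
where
  mul_left_cancel₀' {a b : R[X]} (hab : X * a = X * b) : a = b := by
    ext n
    simpa using congrArg (fun p => p.coeff (n + 1)) hab

include hB in
theorem exists_eq_X_pow_mul (n : ℕ) (b : B) (h : PowerSeries.X ^ n ∣ ψ b) :
    ∃ b', b = algebraMap R[X] B X ^ n * b' := by
  have hbij := (S1958.result R[X] (Ideal.span {(X : R[X])}) B hB).2 n
  obtain ⟨q, hq⟩ := hbij.2 (Ideal.Quotient.mk _ b)
  obtain ⟨p, rfl⟩ := Ideal.Quotient.mk_surjective q
  rw [Ideal.quotientMap_mk, Ideal.Quotient.eq, Ideal.span_singleton_pow, Ideal.map_span, Set.image_singleton,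
    Ideal.mem_span_singleton', map_pow] at hq
  obtain ⟨w, hw⟩ := hq
  have hp : (X : R[X]) ^ n ∣ p := by
    rw [Polynomial.X_pow_dvd_iff]
    intro d hd
    have h2 : PowerSeries.X ^ n ∣ (p : PowerSeries R) := by
      have h3 := congrArg ψ hw
      rw [map_mul, map_pow, map_sub, ψ_X, ψ_poly] at h3
      rw [← sub_add_cancel (p : PowerSeries R) (ψ b), ← h3]
      exact dvd_add (dvd_mul_left _ _) h
    rw [← Polynomial.coeff_coe]
    exact PowerSeries.X_pow_dvd_iff.1 h2 d hd
  obtain ⟨p', rfl⟩ := hp
  exact ⟨algebraMap R[X] B p' - w, by rw [map_mul, map_pow] at hw; linear_combination hw⟩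

include hB in
theorem isUnit_of_sub_one (b : B) (h : PowerSeries.X ∣ ψ b - 1) : IsUnit b := by
  obtain ⟨b', hb'⟩ := exists_eq_X_pow_mul hB ψ 1 (b - 1) (by rwa [pow_one, map_sub, map_one])
  rw [sub_eq_iff_eq_add.1 hb', pow_one]
  haveI := isHenselian hB
  exact Ideal.mem_jacobson_bot.1 (HenselianRing.jac (I := Ideal.span {algebraMap R[X] B X})
    (Ideal.mem_span_singleton_self _)) b'

/-- The setting `R{t}[1/t] → R((t))`. -/
noncomputable def hensLaurentSetting : Setting (Localization.Away (algebraMap R[X] B X)) L' :=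
  let ι : PowerSeries R →+* L' := e.symm.toRingHom.comp (HahnSeries.ofPowerSeries ℤ R)
  let T := algebraMap R[X] B X
  have hι : ∀ b : B, algebraMap (Localization.Away T) L' (algebraMap B _ b) = ι (ψ b) := fun b =>
    e.injective (by rw [he]; simp [ι])
  have hιinj : Function.Injective ι := e.symm.injective.comp HahnSeries.ofPowerSeries_injective
  have hT : ∀ k : ℕ, IsUnit (ι PowerSeries.X ^ k) := fun k => by
    rw [← ψ_X ψ, ← hι]
    exact (((IsLocalization.Away.algebraMap_isUnit T).map (algebraMap (Localization.Away T) L')).pow k)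
  have hsurj : ∀ x : L', ∃ (s : ℕ) (b : PowerSeries R), x * ι PowerSeries.X ^ s = ι b := fun x => by
    obtain ⟨⟨b, _, s, rfl⟩, hb⟩ := IsLocalization.surj (Submonoid.powers (PowerSeries.X : PowerSeries R)) (e x)
    refine ⟨s, b, e.injective ?_⟩
    simp only [ι, RingHom.comp_apply, RingEquiv.toRingHom_eq_coe, RingEquiv.coe_toRingHom, map_mul, map_pow,
      RingEquiv.apply_symm_apply]
    rw [← map_pow]
    exact hb
  { O := ι.range
    t := ι PowerSeries.X
    t_mem := ⟨_, rfl⟩
    unit_of_near := by
      rintro y ⟨_, ⟨c, rfl⟩, hy⟩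
      obtain ⟨⟨b, _, s, rfl⟩, hb⟩ := IsLocalization.surj (Submonoid.powers T) y
      have h1 : ψ b = PowerSeries.X ^ s * (1 + PowerSeries.X * c) := by
        apply hιinj
        have := congrArg (algebraMap (Localization.Away T) L') hb
        dsimp only at this
        rw [map_mul, hι, hι, sub_eq_iff_eq_add.1 hy, map_pow, ψ_X] at this
        rw [← this]
        simp only [map_mul, map_add, map_one, map_pow]
        ring
      obtain ⟨b', rfl⟩ := exists_eq_X_pow_mul hB ψ s b ⟨_, h1⟩
      rw [map_mul, map_pow, ψ_X] at h1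
      have h2 := PowerSeries.X_pow_mul_cancel h1
      have hb' : IsUnit b' := isUnit_of_sub_one hB ψ b' ⟨c, by rw [h2]; ring⟩
      have hu : IsUnit (algebraMap B (Localization.Away T) (T ^ s)) := by
        rw [map_pow]; exact (IsLocalization.Away.algebraMap_isUnit T).pow s
      rw [show y = algebraMap B (Localization.Away T) b' from hu.mul_left_injective (by
        dsimp only at hb ⊢
        rw [hb, ← map_mul, mul_comm])]
      exact hb'.map _
    unit_near := by
      rintro z ⟨_, ⟨b, rfl⟩, hz⟩
      rw [sub_eq_iff_eq_add.1 hz, add_comm, ← map_mul, ← map_one ι, ← map_add]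
      exact (PowerSeries.isUnit_iff_constantCoeff.2 (by simp)).map ι
    dense := by
      intro x K
      obtain ⟨s, b, hb⟩ := hsurj x
      obtain ⟨c, hc⟩ : PowerSeries.X ^ (K + s) ∣ b - ((PowerSeries.trunc (K + s) b : R[X]) : PowerSeries R) := by
        rw [PowerSeries.X_pow_dvd_iff]
        intro d hd
        rw [map_sub, Polynomial.coeff_coe, PowerSeries.coeff_trunc, if_pos hd, sub_self]
      obtain ⟨u, hu⟩ := (IsLocalization.Away.algebraMap_isUnit (S := Localization.Away T) T).pow s
      let y := algebraMap B (Localization.Away T) (algebraMap R[X] B (PowerSeries.trunc (K + s) b)) * ↑u⁻¹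
      have hy : y * algebraMap B (Localization.Away T) T ^ s =
          algebraMap B (Localization.Away T) (algebraMap R[X] B (PowerSeries.trunc (K + s) b)) := by
        rw [← hu]; simp [y, mul_assoc]
      refine ⟨y, ι c, ⟨c, rfl⟩, ?_⟩
      refine (hT s).mul_left_injective ?_
      have hy' := congrArg (algebraMap (Localization.Away T) L') hy
      rw [map_mul, map_pow, hι, hι, ψ_X, ψ_poly] at hy'
      show (x - _) * ι PowerSeries.X ^ s = ι PowerSeries.X ^ K * ι c * ι PowerSeries.X ^ s
      rw [sub_mul, hb, hy', ← map_sub, hc, map_mul, map_pow]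
      ring
    bounded := fun x => by
      obtain ⟨s, b, hb⟩ := hsurj x
      exact ⟨s, b, by rw [← hb, mul_comm]⟩ }

theorem exists_idempotent_near_hensLaurent {n : ℕ} (E₀ : Matrix (Fin n) (Fin n) L') (hE₀ : E₀ * E₀ = E₀) :
    ∃ E : ℕ → Matrix (Fin n) (Fin n) (Localization.Away (algebraMap R[X] B X)), (∀ k, E k * E k = E k) ∧
      (hensLaurentSetting hB ψ e he).Near (fun k => (E k).map (algebraMap _ L')) E₀ := by
  classical
  set S := hensLaurentSetting hB ψ e he
  let ι : PowerSeries R →+* L' := e.symm.toRingHom.comp (HahnSeries.ofPowerSeries ℤ R)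
  let T := algebraMap R[X] B X
  have hSt : S.t = ι PowerSeries.X := rfl
  have hιinj : Function.Injective ι := e.symm.injective.comp HahnSeries.ofPowerSeries_injective
  have hι : ∀ b : B, algebraMap (Localization.Away T) L' (algebraMap B _ b) = ι (ψ b) := fun b =>
    e.injective (by rw [he]; simp [ι])
  haveI := isHenselian hB
  obtain ⟨c, hc⟩ := S.exists_bound E₀
  choose b hb using fun i j => RingHom.mem_range.1 (hc i j)
  have hb' : ∀ i j, ι (b i j) = ι PowerSeries.X ^ c * E₀ i j := hb
  have hbb : (Matrix.of b : Matrix (Fin n) (Fin n) (PowerSeries R)) * (Matrix.of b : Matrix (Fin n) (Fin n) (PowerSeries R)) =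
      (PowerSeries.X ^ c : PowerSeries R) • (Matrix.of b : Matrix (Fin n) (Fin n) (PowerSeries R)) := by
    refine Matrix.ext fun i j => hιinj ?_
    simp only [Matrix.mul_apply, Matrix.smul_apply, Matrix.of_apply, smul_eq_mul, map_sum, map_mul, map_pow, hb']
    conv_rhs => rw [← hE₀, Matrix.mul_apply, Finset.mul_sum, Finset.mul_sum]
    exact Finset.sum_congr rfl fun k _ => by ring
  have hseq : ∀ k, ∃ E : Matrix (Fin n) (Fin n) (Localization.Away T), E * E = E ∧
      S.Small k (E₀ - E.map (algebraMap (Localization.Away T) L')) := by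
    intro k
    let N := k + 6 * c + 1
    let a : Matrix (Fin n) (Fin n) B := Matrix.of fun i j => algebraMap R[X] B (PowerSeries.trunc N (b i j))
    have hw : ∀ i j, ∃ w, b i j - ψ (a i j) = PowerSeries.X ^ N * w := fun i j => by
      have h : PowerSeries.X ^ N ∣ b i j - ψ (a i j) := by
        simp only [a, Matrix.of_apply, ψ_poly]
        rw [PowerSeries.X_pow_dvd_iff]
        intro d hd
        rw [map_sub, Polynomial.coeff_coe, PowerSeries.coeff_trunc, if_pos hd, sub_self]
      exact h
    choose w hw using hw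
    have hM : ∀ i j, (a * a - T ^ c • a) i j ∈ Ideal.span {T ^ N} := by
      intro i j
      have hab : (Ideal.Quotient.mk (Ideal.span {(PowerSeries.X : PowerSeries R) ^ N})).mapMatrix
          (ψ.toRingHom.mapMatrix a) =
          (Ideal.Quotient.mk (Ideal.span {(PowerSeries.X : PowerSeries R) ^ N})).mapMatrix (Matrix.of b) := by
        refine Matrix.ext fun i j => ?_
        refine (Ideal.Quotient.eq.2 ?_).symm
        show b i j - ψ (a i j) ∈ _
        rw [hw]
        exact Ideal.mul_mem_right _ _ (Ideal.mem_span_singleton_self _)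
      have h1 : ψ ((a * a - T ^ c • a) i j) ∈ Ideal.span {(PowerSeries.X : PowerSeries R) ^ N} := by
        rw [← Ideal.Quotient.eq_zero_iff_mem]
        have hB' := congrArg (Ideal.Quotient.mk (Ideal.span {(PowerSeries.X : PowerSeries R) ^ N})).mapMatrix hbb
        rw [map_mul, ← hab] at hB'
        have := congrFun (congrFun hB' i) j
        simp only [RingHom.mapMatrix_apply, Matrix.map_apply, Matrix.mul_apply, Matrix.smul_apply,
          smul_eq_mul, Matrix.of_apply, map_mul, Matrix.sub_apply, map_sub, map_sum, map_pow,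
          AlgHom.toRingHom_eq_coe, RingHom.coe_coe, T, ψ_X] at this ⊢
        rw [this]
        have hij := congrFun (congrFun hab i) j
        simp only [RingHom.mapMatrix_apply, Matrix.map_apply, Matrix.of_apply, AlgHom.toRingHom_eq_coe,
          RingHom.coe_coe] at hij
        rw [hij, sub_self]
      obtain ⟨b', hb'⟩ := exists_eq_X_pow_mul hB ψ N _ (Ideal.mem_span_singleton.1 h1)
      rw [hb']
      exact Ideal.mul_mem_right _ _ (Ideal.mem_span_singleton_self _)
    obtain ⟨M, hMM, hMd⟩ := exists_idem_near T 0 c (fun m x h => by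
      simp only [pow_zero, one_mul]
      induction m with
      | zero => simpa using h
      | succ m ih =>
        rw [pow_succ', mul_assoc] at h
        exact ih (X_regular hB _ h)) N (by omega) _ hM
    obtain ⟨u, hu⟩ := (IsLocalization.Away.algebraMap_isUnit (S := Localization.Away T) T).pow c
    refine ⟨(↑u⁻¹ : Localization.Away T) • M.map (algebraMap B _), ?_, fun i j => ?_⟩
    · rw [Matrix.smul_mul, Matrix.mul_smul, ← RingHom.mapMatrix_apply, ← map_mul, hMM, RingHom.mapMatrix_apply]
      refine Matrix.ext fun i j => ?_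
      simp only [Matrix.smul_apply, Matrix.map_apply, smul_eq_mul, map_mul, map_pow, ← hu]
      rw [Units.inv_mul_cancel_left, RingHom.mapMatrix_apply, Matrix.map_apply]
    · have hTu : IsUnit (ι PowerSeries.X ^ c) := by
        rw [← ψ_X ψ, ← hι]
        exact ((IsLocalization.Away.algebraMap_isUnit T).map _).pow c
      obtain ⟨d, hd⟩ := Ideal.mem_span_singleton'.1 (hMd i j)
      refine ⟨ι (PowerSeries.X ^ (N - 5 * c - k) * (PowerSeries.X ^ (4 * c) * w i j - ψ d)), ⟨_, rfl⟩, ?_⟩
      refine hTu.mul_left_injective ?_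
      show (E₀ i j - algebraMap (Localization.Away T) L' (↑u⁻¹ * algebraMap B _ (M i j))) * ι PowerSeries.X ^ c = _
      have h3 : algebraMap (Localization.Away T) L' ↑u⁻¹ * ι PowerSeries.X ^ c = 1 := by
        rw [← ψ_X ψ, ← hι, ← map_pow, ← map_mul, ← hu, Units.inv_mul, map_one]
      rw [sub_mul, map_mul, mul_right_comm _ (algebraMap (Localization.Away T) L' _), h3, one_mul,
        mul_comm (E₀ i j), ← hb', hι, ← map_sub, hSt]
      show _ = ι PowerSeries.X ^ k * ι _ * ι PowerSeries.X ^ c
      simp only [← map_pow ι, ← map_mul ι]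
      congr 1
      have e1 : b i j - ψ (M i j) = PowerSeries.X ^ N * w i j - PowerSeries.X ^ (N - 4 * c) * ψ d := by
        rw [← hw, ← ψ_X ψ, ← map_pow, ← map_mul, mul_comm _ d, hd, map_sub]
        ring
      rw [e1, show N = k + (N - 5 * c - k) + (4 * c) + c by omega]
      rw [show k + (N - 5 * c - k) + 4 * c + c - 4 * c = k + (N - 5 * c - k) + c by omega]
      rw [show k + (N - 5 * c - k) + 4 * c + c - 5 * c - k = N - 5 * c - k by omega]
      simp only [pow_add]
      ring
  choose E hE hEs using hseq
  exact ⟨E, hE, fun K => eventually_atTop.2 ⟨K, fun k hk => (hEs k).mono S hk⟩⟩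

end Groth.Agent.H1Approx
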