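import Groth.Agent.H1Approx.Completion
import Groth.Agent.H1Approx.Modules
import Groth.Agent.H1Elkik.Smooth

/-!
# Approximating idempotent matrices over a henselian pair
-/

set_option autoImplicit false
set_option linter.style.haveILetI false

universe u v

open MvPolynomial Filter

namespace Groth.Agent.H1Approx

variable {R : Type u} [CommRing R]

/-- Indexing of the entries of a matrix. -/
def ix (n : ℕ) : Fin n × Fin n ≃ Fin (n * n) := finProdFinEquiv

/-- The generic matrix. -/
noncomputable def genMatrix (R : Type u) [CommRing R] (n : ℕ) :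
    Matrix (Fin n) (Fin n) (MvPolynomial (Fin (n * n)) R) :=
  Matrix.of fun i j => X ((ix n) (i, j))

/-- The relations `E * E = c • E`. -/
noncomputable def idemRel (n : ℕ) (c : R) : Fin (n * n) → MvPolynomial (Fin (n * n)) R :=
  fun l => (genMatrix R n * genMatrix R n - (C c : MvPolynomial (Fin (n * n)) R) • genMatrix R n)
    ((ix n).symm l).1 ((ix n).symm l).2

theorem sgood_idemRel (n : ℕ) (c : R) : H1Elkik.SGood (idemRel n c) (c ^ 2) := by
  classical
  set P := MvPolynomial (Fin (n * n)) R
  set G : Matrix (Fin n) (Fin n) P := genMatrix R n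
  set cc : P := C c
  let q : Polynomial P := Polynomial.X * Polynomial.X - Polynomial.C cc * Polynomial.X
  let w : Polynomial P := (Polynomial.C 2 * Polynomial.X - Polynomial.C cc) * q
  let F : Matrix (Fin n) (Fin n) P := G * G - cc • G
  let Wm : Matrix (Fin n) (Fin n) P := Polynomial.aeval G w
  have hF : Polynomial.aeval G q = F := by
    simp only [q, F, map_sub, map_mul, Polynomial.aeval_X, Polynomial.aeval_C, Algebra.smul_def]
  have hrel : ∀ i j, F i j ∈ H1Elkik.rel (idemRel n c) := fun i j =>
    Ideal.subset_span ⟨(ix n) (i, j), by simp [idemRel, F, G, cc]⟩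
  let W : Fin (n * n) → P := fun l => Wm ((ix n).symm l).1 ((ix n).symm l).2
  have hW : ∀ l, W l ∈ H1Elkik.rel (idemRel n c) := fun l => by
    simp only [W, Wm, w, map_mul, hF, Matrix.mul_apply]
    exact sum_mem fun k _ => Ideal.mul_mem_left _ _ (hrel _ _)
  refine ⟨W, hW, fun l => ?_⟩
  let δ : Derivation R P P := ∑ k, W k • pderiv k
  have hδ : ∀ p : P, ∑ k, pderiv k p * W k = δ p := fun p => by
    have hs : ∀ (s : Finset (Fin (n * n))), (∑ k ∈ s, W k • pderiv k : Derivation R P P) p =
        ∑ k ∈ s, pderiv k p * W k := by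
      intro s
      induction s using Finset.induction_on with
      | empty => simp
      | insert k s hk ih =>
        rw [Finset.sum_insert hk, Finset.sum_insert hk, Derivation.add_apply, ih, Derivation.smul_apply,
          smul_eq_mul, mul_comm (W k)]
    exact (hs _).symm
  rw [hδ]
  have hG : G.map δ = Wm := by
    ext i j
    rw [Matrix.map_apply, show G i j = X ((ix n) (i, j)) from rfl, ← hδ]
    rw [Finset.sum_eq_single ((ix n) (i, j)) (fun k _ hk => by simp [Ne.symm hk]) (by simp)]
    simp [W]
  have hδF : F.map δ = Wm * G + G * Wm - cc • Wm := by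
    rw [← hG]
    refine Matrix.ext fun i j => ?_
    have hc : δ (C c : P) = 0 := δ.map_algebraMap c
    simp [F, Matrix.mul_apply, map_sum, Finset.sum_add_distrib, cc, mul_comm, hc]
    ring
  have hkey : cc ^ 2 • F - F.map δ = -((4 : P) • (F * F)) := by
    have h : cc ^ 2 • q - (w * Polynomial.X + Polynomial.X * w - cc • w) = -((4 : P) • (q * q)) := by
      simp only [Polynomial.smul_eq_C_mul, w, q, map_pow, map_ofNat]
      ring
    have h' := congrArg (Polynomial.aeval G) h
    simp only [map_sub, map_add, map_neg, map_mul, map_smul, Polynomial.aeval_X, hF] at h'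
    rw [hδF]
    exact h'
  have h := congrFun (congrFun hkey ((ix n).symm l).1) ((ix n).symm l).2
  simp only [Matrix.sub_apply, Matrix.smul_apply, Matrix.map_apply, smul_eq_mul, Matrix.neg_apply] at h
  rw [map_pow]
  show cc ^ 2 * F _ _ - δ (F _ _) ∈ _
  rw [h, pow_two, Matrix.mul_apply]
  exact neg_mem (Ideal.mul_mem_left _ _ (sum_mem fun k _ => Ideal.mul_mem_mul (hrel _ _) (hrel _ _)))

theorem eval_idemRel (n : ℕ) (c : R) (M : Matrix (Fin n) (Fin n) R) (l : Fin (n * n)) :
    eval (fun l => M ((ix n).symm l).1 ((ix n).symm l).2) (idemRel n c l) =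
      (M * M - c • M) ((ix n).symm l).1 ((ix n).symm l).2 := by
  simp [idemRel, genMatrix, Matrix.mul_apply]

/-- Approximate solutions of `E * E = t ^ c • E` are near exact ones. -/
theorem exists_idem_near (t : R) [HenselianRing R (Ideal.span {t})] (k₀ c : ℕ)
    (hk₀ : ∀ (k : ℕ) (x : R), t ^ k * x = 0 → t ^ k₀ * x = 0) {n : ℕ} (N : ℕ) (hN : k₀ + 6 * c + 1 ≤ N)
    (M : Matrix (Fin n) (Fin n) R) (hM : ∀ i j, (M * M - t ^ c • M) i j ∈ Ideal.span {t ^ N}) :
    ∃ M₁ : Matrix (Fin n) (Fin n) R, M₁ * M₁ = t ^ c • M₁ ∧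
      ∀ i j, M₁ i j - M i j ∈ Ideal.span {t ^ (N - 4 * c)} := by
  have hS : H1Elkik.SGood (idemRel n (t ^ c)) (t ^ (2 * c)) := by
    rw [pow_mul', ]
    exact sgood_idemRel n (t ^ c)
  obtain ⟨a, ha, hd⟩ := H1Elkik.exists_root_of_sgood t k₀ (2 * c) hk₀ (idemRel n (t ^ c)) hS N (by omega)
    (fun l => M ((ix n).symm l).1 ((ix n).symm l).2)
    (fun l => by rw [eval_idemRel]; exact hM _ _)
  let M₁ : Matrix (Fin n) (Fin n) R := Matrix.of fun i j => a ((ix n) (i, j))
  have ha' : a = fun l => M₁ ((ix n).symm l).1 ((ix n).symm l).2 := funext fun l => by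
    simp [M₁]
  refine ⟨M₁, sub_eq_zero.1 (Matrix.ext fun i j => ?_), fun i j => ?_⟩
  · have := ha ((ix n) (i, j))
    rw [ha', eval_idemRel] at this
    simpa using this
  · have := hd ((ix n) (i, j))
    rw [show N - 2 * (2 * c) = N - 4 * c by omega] at this
    simpa [M₁] using this

variable {A : Type u} [CommRing A] (t : A)

theorem exists_idempotent_near [HenselianRing A (Ideal.span {t})]
    (hbd : ∃ N : ℕ, ∀ a : A, (∃ m : ℕ, t ^ m * a = 0) → t ^ N * a = 0)
    (ht : t ∈ (⊥ : Ideal A).jacobson)
    [Algebra (Localization.Away t) (Localization.Away (algebraMap A (AdicCompletion (Ideal.span {t}) A) t))]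
    (halg : algebraMap (Localization.Away t) (Localization.Away (algebraMap A (AdicCompletion (Ideal.span {t}) A) t)) =
      Localization.awayMap (algebraMap A (AdicCompletion (Ideal.span {t}) A)) t) {n : ℕ}
    (E₀ : Matrix (Fin n) (Fin n) (Localization.Away (algebraMap A (AdicCompletion (Ideal.span {t}) A) t)))
    (hE₀ : E₀ * E₀ = E₀) :
    ∃ E : ℕ → Matrix (Fin n) (Fin n) (Localization.Away t), (∀ k, E k * E k = E k) ∧
      (completionSetting t ht halg).Near
        (fun k => (E k).map (algebraMap (Localization.Away t) _)) E₀ := by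
  classical
  set S := completionSetting t ht halg
  obtain ⟨k₀, hk₀⟩ := hbd
  let T := algebraMap A (AdicCompletion (Ideal.span {t}) A) t
  let ι := algebraMap (AdicCompletion (Ideal.span {t}) A) (Localization.Away T)
  have hSt : S.t = ι T := rfl
  obtain ⟨c, hc⟩ := S.exists_bound E₀
  choose b hb using fun i j => RingHom.mem_range.1 (hc i j)
  have hbb : ∀ i j, ∃ r, T ^ r * ((Matrix.of b * Matrix.of b) i j) = T ^ r * (T ^ c * b i j) := by
    intro i j
    have h1 : ι ((Matrix.of b * Matrix.of b) i j) = ι (T ^ c * b i j) := by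
      simp only [Matrix.mul_apply, Matrix.of_apply, map_sum, map_mul, map_pow]
      simp only [show ∀ i j, ι (b i j) = ι T ^ c * E₀ i j from hb]
      conv_rhs => rw [← hE₀, Matrix.mul_apply, Finset.mul_sum, Finset.mul_sum]
      exact Finset.sum_congr rfl fun k _ => by ring
    obtain ⟨⟨_, r, rfl⟩, hr⟩ := (IsLocalization.eq_iff_exists (Submonoid.powers T) (Localization.Away T)).1 h1
    exact ⟨r, hr⟩
  choose r hr using hbb
  let r₀ := ∑ i, ∑ j, r i j
  let c₁ := r₀ + c
  let B : Matrix (Fin n) (Fin n) (AdicCompletion (Ideal.span {t}) A) := Matrix.of fun i j => T ^ r₀ * b i j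
  have hB : B * B = T ^ c₁ • B := by
    refine Matrix.ext fun i j => ?_
    have hle : r i j ≤ r₀ :=
      (Finset.single_le_sum (fun _ _ => Nat.zero_le _) (Finset.mem_univ j)).trans
        (Finset.single_le_sum (f := fun i => ∑ j, r i j) (fun _ _ => Nat.zero_le _) (Finset.mem_univ i))
    have h := hr i j
    rw [Matrix.mul_apply] at h
    simp only [Matrix.of_apply] at h
    rw [Matrix.smul_apply, smul_eq_mul, Matrix.mul_apply]
    simp only [B, Matrix.of_apply]
    calc ∑ k, T ^ r₀ * b i k * (T ^ r₀ * b k j) = T ^ r₀ * T ^ (r₀ - r i j) * (T ^ r i j * ∑ k, b i k * b k j) := by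
          rw [Finset.mul_sum, Finset.mul_sum]
          refine Finset.sum_congr rfl fun k _ => ?_
          obtain ⟨e, he⟩ := Nat.exists_eq_add_of_le hle
          rw [he, Nat.add_sub_cancel_left, pow_add]
          ring
      _ = T ^ r₀ * T ^ (r₀ - r i j) * (T ^ r i j * (T ^ c * b i j)) := by rw [h]
      _ = T ^ c₁ * (T ^ r₀ * b i j) := by
          obtain ⟨e, he⟩ := Nat.exists_eq_add_of_le hle
          simp only [c₁]
          rw [he, Nat.add_sub_cancel_left]
          ring
  have hseq : ∀ k, ∃ E : Matrix (Fin n) (Fin n) (Localization.Away t), E * E = E ∧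
      S.Small k (E₀ - E.map (algebraMap (Localization.Away t) _)) := by
    intro k
    let N := k + k₀ + 6 * c₁ + 1
    choose a w hw using fun i j => exists_sub_eq_pow_mul A t N (B i j)
    have hM : ∀ i j, (Matrix.of a * Matrix.of a - t ^ c₁ • Matrix.of a : Matrix (Fin n) (Fin n) A) i j ∈
        Ideal.span {t ^ N} := by
      intro i j
      have h1 : algebraMap A (AdicCompletion (Ideal.span {t}) A)
          ((Matrix.of a * Matrix.of a - t ^ c₁ • Matrix.of a : Matrix (Fin n) (Fin n) A) i j) ∈ Ideal.span {T ^ N} := by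
        have hBa : (Ideal.Quotient.mk (Ideal.span {T ^ N})).mapMatrix
            ((algebraMap A (AdicCompletion (Ideal.span {t}) A)).mapMatrix (Matrix.of a)) =
            (Ideal.Quotient.mk (Ideal.span {T ^ N})).mapMatrix B := by
          refine Matrix.ext fun i j => ?_
          simp only [RingHom.mapMatrix_apply, Matrix.map_apply, Matrix.of_apply]
          refine (Ideal.Quotient.eq.2 ?_).symm
          rw [hw]
          exact Ideal.mul_mem_right _ _ (Ideal.mem_span_singleton_self _)
        rw [← Ideal.Quotient.eq_zero_iff_mem]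
        have hB' := congrArg (Ideal.Quotient.mk (Ideal.span {T ^ N})).mapMatrix hB
        rw [map_mul, ← hBa] at hB'
        have := congrFun (congrFun hB' i) j
        simp only [RingHom.mapMatrix_apply, Matrix.map_apply, Matrix.mul_apply, Matrix.smul_apply,
          smul_eq_mul, Matrix.of_apply, map_mul, Matrix.sub_apply, map_sub, map_sum, map_pow] at this ⊢
        rw [this]
        have hij := congrFun (congrFun hBa i) j
        simp only [RingHom.mapMatrix_apply, Matrix.map_apply, Matrix.of_apply] at hij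
        rw [hij, sub_self]
      obtain ⟨d, hd⟩ := Ideal.mem_span_singleton'.1 h1
      obtain ⟨a', ha'⟩ := exists_eq_pow_mul A t N _ d (by rw [← hd, mul_comm])
      rw [ha']
      exact Ideal.mul_mem_right _ _ (Ideal.mem_span_singleton_self _)
    obtain ⟨M, hMM, hMd⟩ := exists_idem_near t k₀ c₁ (fun m x h => hk₀ x ⟨m, h⟩) N (by omega) _ hM
    obtain ⟨u, hu⟩ := (IsLocalization.Away.algebraMap_isUnit (S := Localization.Away t) t).pow c₁
    refine ⟨(↑u⁻¹ : Localization.Away t) • M.map (algebraMap A _), ?_, fun i j => ?_⟩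
    · rw [Matrix.smul_mul, Matrix.mul_smul, ← RingHom.mapMatrix_apply, ← map_mul, hMM, RingHom.mapMatrix_apply]
      ext i j
      simp only [Matrix.smul_apply, Matrix.map_apply, smul_eq_mul, map_mul, map_pow, ← hu]
      rw [Units.inv_mul_cancel_left, RingHom.mapMatrix_apply, Matrix.map_apply]
    · have hTu : IsUnit (ι T ^ c₁) := (IsLocalization.Away.algebraMap_isUnit T).pow c₁
      obtain ⟨d, hd⟩ := Ideal.mem_span_singleton'.1 (hMd i j)
      refine ⟨ι (T ^ (N - 5 * c₁ - k) * (T ^ (4 * c₁) * w i j - algebraMap A _ d)), ⟨_, rfl⟩, ?_⟩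
      refine hTu.mul_left_injective ?_
      show (E₀ i j - algebraMap (Localization.Away t) (Localization.Away T) (↑u⁻¹ * algebraMap A _ (M i j))) * ι T ^ c₁ = _
      have hφ : ∀ x : A, algebraMap (Localization.Away t) (Localization.Away T) (algebraMap A _ x) =
          ι (algebraMap A _ x) := fun x => by
        rw [halg, Localization.awayMap, IsLocalization.Away.map, IsLocalization.map_eq]
      have h3 : algebraMap (Localization.Away t) (Localization.Away T) ↑u⁻¹ * ι T ^ c₁ = 1 := by
        rw [← hφ t, ← map_pow, ← map_mul, ← hu, Units.inv_mul, map_one]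
      have hB0 : E₀ i j * ι T ^ c₁ = ι (B i j) := by
        simp only [B, Matrix.of_apply, map_mul, map_pow, show ι (b i j) = ι T ^ c * E₀ i j from hb i j,
          c₁, pow_add]
        ring
      rw [sub_mul, map_mul, mul_right_comm _ (algebraMap (Localization.Away t) _ _), h3, one_mul, hB0, hφ,
        ← map_sub, hSt]
      show _ = ι T ^ k * ι _ * ι T ^ c₁
      simp only [← map_pow ι, ← map_mul ι]
      congr 1
      have e1 : B i j - algebraMap A _ (M i j) =
          T ^ N * w i j - T ^ (N - 4 * c₁) * algebraMap A _ d := by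
        rw [← hw, ← map_pow, ← map_mul, show t ^ (N - 4 * c₁) * d = M i j - a i j by
          rw [mul_comm]; simpa using hd, map_sub]
        ring
      rw [e1, show N = k + (N - 5 * c₁ - k) + (4 * c₁) + c₁ by omega]
      rw [show k + (N - 5 * c₁ - k) + 4 * c₁ + c₁ - 4 * c₁ = k + (N - 5 * c₁ - k) + c₁ by omega]
      rw [show k + (N - 5 * c₁ - k) + 4 * c₁ + c₁ - 5 * c₁ - k = N - 5 * c₁ - k by omega]
      simp only [pow_add]
      ring
  choose E hE hEs using hseq
  exact ⟨E, hE, fun K => eventually_atTop.2 ⟨K, fun k hk => (hEs k).mono S hk⟩⟩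

end Groth.Agent.H1Approx
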