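import Groth.Agent.H1Approx.Basic

/-!
# `R(t)` is dense in `R((t))`
-/

set_option autoImplicit false
set_option linter.style.haveILetI false

universe u v w

open Polynomial

namespace Groth.Agent.H1Approx

variable (R : Type u) [CommRing R]

theorem mem_closure_one_X {f : R[X]} (h : f ∈ Submonoid.closure ({f : R[X] | f.coeff 0 = 1} ∪ {X})) :
    ∃ (k : ℕ) (g : R[X]), g.coeff 0 = 1 ∧ f = X ^ k * g := by
  induction h using Submonoid.closure_induction with
  | mem x hx =>
    rcases hx with hx | hx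
    · exact ⟨0, x, hx, by simp⟩
    · exact ⟨1, 1, by simp, by rw [Set.mem_singleton_iff.1 hx]; simp⟩
  | one => exact ⟨0, 1, by simp, by simp⟩
  | mul x y _ _ hx hy =>
    obtain ⟨k, g, hg, rfl⟩ := hx
    obtain ⟨l, h, hh, rfl⟩ := hy
    exact ⟨k + l, g * h, by rw [mul_coeff_zero, hg, hh, one_mul], by rw [pow_add]; ring⟩

variable {R}
variable {L : Type v} [CommRing L] [Algebra R[X] L]
  [IsLocalization (Submonoid.closure ({f : R[X] | f.coeff 0 = 1} ∪ {X})) L]
  {L' : Type w} [CommRing L'] [Algebra L L'] (e : L' ≃+* LaurentSeries R)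

/-- The setting `R(t) → R((t))`. -/
noncomputable def laurentSetting
    (he : ∀ p : R[X], e (algebraMap L L' (algebraMap R[X] L p)) =
      HahnSeries.ofPowerSeries ℤ R (Polynomial.coeToPowerSeries.ringHom p)) :
    Setting L L' :=
  let ι : PowerSeries R →+* L' := e.symm.toRingHom.comp (HahnSeries.ofPowerSeries ℤ R)
  have hX : (X : R[X]) ∈ Submonoid.closure ({f : R[X] | f.coeff 0 = 1} ∪ {X}) := Submonoid.subset_closure (Or.inr rfl)
  have hι : ∀ p : R[X], algebraMap L L' (algebraMap R[X] L p) = ι (p : PowerSeries R) := fun p =>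
    e.injective (by rw [he]; simp [ι, Polynomial.coeToPowerSeries.ringHom_apply])
  have hιinj : Function.Injective ι := e.symm.injective.comp HahnSeries.ofPowerSeries_injective
  have hT : ∀ k : ℕ, IsUnit (ι PowerSeries.X ^ k) := fun k => by
    rw [← Polynomial.coe_X, ← hι]
    exact (((IsLocalization.map_units L (⟨X, Submonoid.subset_closure (Or.inr rfl)⟩ :
      Submonoid.closure ({f : R[X] | f.coeff 0 = 1} ∪ {X}))).map (algebraMap L L')).pow k)
  have hsurj : ∀ x : L', ∃ (s : ℕ) (b : PowerSeries R), x * ι PowerSeries.X ^ s = ι b := fun x => by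
    obtain ⟨⟨b, _, s, rfl⟩, hb⟩ := IsLocalization.surj (Submonoid.powers (PowerSeries.X : PowerSeries R)) (e x)
    refine ⟨s, b, e.injective ?_⟩
    simp only [ι, RingHom.comp_apply, RingEquiv.toRingHom_eq_coe, RingEquiv.coe_toRingHom, map_mul, map_pow,
      RingEquiv.apply_symm_apply]
    rw [← map_pow]
    exact hb
  { O := ι.range
    t := ι PowerSeries.X
    t_mem := ⟨_, rfl⟩
    unit_of_near := by
      rintro y ⟨_, ⟨b, rfl⟩, hy⟩
      obtain ⟨⟨a, f, hf⟩, ha⟩ :=
        IsLocalization.surj (Submonoid.closure ({f : R[X] | f.coeff 0 = 1} ∪ {X})) y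
      obtain ⟨k, g, hg, rfl⟩ := mem_closure_one_X R hf
      have h1 : (a : PowerSeries R) = PowerSeries.X ^ k * ((g : PowerSeries R) * (1 + PowerSeries.X * b)) := by
        apply hιinj
        have := congrArg (algebraMap L L') ha
        dsimp only at this
        rw [map_mul, hι, hι, sub_eq_iff_eq_add.1 hy] at this
        rw [← this, Polynomial.coe_mul, Polynomial.coe_pow, Polynomial.coe_X]
        simp only [map_mul, map_pow, map_add, map_one]
        ring
      obtain ⟨a', rfl⟩ : X ^ k ∣ a := by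
        rw [Polynomial.X_pow_dvd_iff]
        intro d hd
        rw [← Polynomial.coeff_coe, h1, PowerSeries.coeff_X_pow_mul', if_neg (by omega)]
      have h0 : a'.coeff 0 = 1 := by
        have h2 := congrArg (PowerSeries.coeff k) h1
        rw [Polynomial.coeff_coe, ← mul_comm a', Polynomial.coeff_mul_X_pow', if_pos le_rfl,
          PowerSeries.coeff_X_pow_mul', if_pos le_rfl, Nat.sub_self] at h2
        rw [h2]
        simp [PowerSeries.coeff_zero_eq_constantCoeff, hg]
      have hu : ∀ p ∈ Submonoid.closure ({f : R[X] | f.coeff 0 = 1} ∪ {X}), IsUnit (algebraMap R[X] L p) :=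
        fun p hp => IsLocalization.map_units L (⟨p, hp⟩ : Submonoid.closure ({f : R[X] | f.coeff 0 = 1} ∪ {X}))
      refine isUnit_of_mul_isUnit_left (y := algebraMap R[X] L (X ^ k * g)) ?_
      rw [ha]
      have h0' : a' ∈ Submonoid.closure ({f : R[X] | f.coeff 0 = 1} ∪ {X}) := Submonoid.subset_closure (Or.inl h0)
      exact hu _ (mul_mem (pow_mem hX k) h0')
    unit_near := by
      rintro z ⟨_, ⟨b, rfl⟩, hz⟩
      rw [sub_eq_iff_eq_add.1 hz, add_comm, ← map_mul, ← map_one ι, ← map_add]
      exact (PowerSeries.isUnit_iff_constantCoeff.2 (by simp)).map ι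
    dense := by
      intro x K
      obtain ⟨s, b, hb⟩ := hsurj x
      obtain ⟨c, hc⟩ : PowerSeries.X ^ (K + s) ∣ b - ((PowerSeries.trunc (K + s) b : R[X]) : PowerSeries R) := by
        rw [PowerSeries.X_pow_dvd_iff]
        intro d hd
        rw [map_sub, Polynomial.coeff_coe, PowerSeries.coeff_trunc, if_pos hd, sub_self]
      obtain ⟨y, hy⟩ : ∃ y : L, y * algebraMap R[X] L (X ^ s) = algebraMap R[X] L (PowerSeries.trunc (K + s) b) := by
        obtain ⟨u, hu⟩ := IsLocalization.map_units L (⟨X ^ s, pow_mem hX s⟩ :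
          Submonoid.closure ({f : R[X] | f.coeff 0 = 1} ∪ {X}))
        refine ⟨algebraMap R[X] L (PowerSeries.trunc (K + s) b) * ↑u⁻¹, ?_⟩
        rw [show algebraMap R[X] L (X ^ s) = ↑u from hu.symm, mul_assoc, Units.inv_mul, mul_one]
      refine ⟨y, ι c, ⟨c, rfl⟩, ?_⟩
      refine (hT s).mul_left_injective ?_
      have hy' := congrArg (algebraMap L L') hy
      rw [map_mul, hι, hι, Polynomial.coe_pow, Polynomial.coe_X, map_pow] at hy'
      show (x - _) * ι PowerSeries.X ^ s = ι PowerSeries.X ^ K * ι c * ι PowerSeries.X ^ s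
      rw [sub_mul, hb, hy', ← map_sub, hc, map_mul, map_pow]
      ring
    bounded := fun x => by
      obtain ⟨s, b, hb⟩ := hsurj x
      exact ⟨s, b, by rw [← hb, mul_comm]⟩ }

end Groth.Agent.H1Approx
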